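import Mathlib
import Groth.Prelude.Def_SpSeq

set_option linter.unusedSectionVars false
set_option linter.unusedVariables false
set_option linter.unusedSimpArgs false
set_option autoImplicit false
set_option linter.style.haveILetI false
set_option maxHeartbeats 400000

/-!
# Subobjects and refinements: tools for filtered objects in an abelian category
-/

namespace Groth.Agent.Helper6.FilObjLib

open CategoryTheory Limits SpSeq

universe v u

variable {A : Type u} [Category.{v} A] [Abelian A]

/-- If an epi onto `S` followed by the inclusion factors through `T`, then `S ≤ T`. -/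
theorem le_of_epi_comp_factors {X : A} (S T : Subobject X) {T' : A} (π : T' ⟶ (S : A)) [Epi π]
    (h : T.Factors (π ≫ S.arrow)) : S ≤ T := by
  have hu : T.factorThru _ h ≫ T.arrow = π ≫ S.arrow := Subobject.factorThru_arrow _ _ h
  have hk : kernel.ι π ≫ T.factorThru _ h = 0 := by
    rw [← cancel_mono T.arrow, Category.assoc, hu, kernel.condition_assoc, zero_comp, zero_comp]
  refine Subobject.le_of_comm (Abelian.epiDesc π (T.factorThru _ h) hk) ?_
  rw [← cancel_epi π, ← Category.assoc, Abelian.comp_epiDesc, hu]

/-- A generalized element of the image lifts, up to refinement. -/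
theorem exists_refinement_of_factors_image {W Y T : A} (h : W ⟶ Y) (x : T ⟶ Y)
    (hx : (imageSubobject h).Factors x) :
    ∃ (T' : A) (π : T' ⟶ T) (_ : Epi π) (y : T' ⟶ W), π ≫ x = y ≫ h := by
  obtain ⟨T', π, hπ, y, hy⟩ :=
    surjective_up_to_refinements_of_epi (factorThruImageSubobject h)
      ((imageSubobject h).factorThru x hx)
  refine ⟨T', π, hπ, y, ?_⟩
  have := congrArg (fun z => z ≫ (imageSubobject h).arrow) hy
  simp only [Category.assoc, Subobject.factorThru_arrow, imageSubobject_arrow_comp] at this
  exact this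

theorem le_pullback_iff {X Y : A} (h : X ⟶ Y) (S : Subobject X) (T : Subobject Y) :
    S ≤ (Subobject.pullback h).obj T ↔ T.Factors (S.arrow ≫ h) := by
  constructor
  · intro hle
    exact (pullback_factors_iff h T S.arrow).mp
      (Subobject.factors_of_le S.arrow hle (Subobject.factors_self S))
  · intro hf
    exact Subobject.le_of_factors (pullback_factors h T S.arrow hf)

theorem imageSubobject_le_of_factors {W Y : A} (h : W ⟶ Y) (S : Subobject Y)
    (hS : S.Factors h) : imageSubobject h ≤ S :=
  imageSubobject_le h (S.factorThru h hS) (Subobject.factorThru_arrow _ _ _)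

theorem imageSubobject_le_of_eq_comp {W W' Y : A} (a : W ⟶ Y) (b : W' ⟶ Y) (u : W ⟶ W')
    (h : a = u ≫ b) : imageSubobject a ≤ imageSubobject b := by
  subst h
  exact imageSubobject_comp_le _ _

theorem factors_of_compat {K L : FilObj A} (f : K ⟶ L) (p : ℤ) {T : A} (x : T ⟶ K.obj)
    (hx : (K.fil p).Factors x) : (L.fil p).Factors (x ≫ f.hom) := by
  have h1 := Subobject.factors_of_le x (f.compat p) hx
  exact (pullback_factors_iff f.hom (L.fil p) x).mp h1

/-- Strictness is preserved by precomposition with an isomorphism of filtered objects. -/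
theorem isStrict_iso_comp {P P' M : FilObj A} (e : P ≅ P') (f : P' ⟶ M)
    (hf : FilObj.IsStrict f) : FilObj.IsStrict (e.hom ≫ f) := by
  intro p
  have hhi : e.hom.hom ≫ e.inv.hom = 𝟙 P.obj := congrArg FilObj.Hom.hom e.hom_inv_id
  have hih : e.inv.hom ≫ e.hom.hom = 𝟙 P'.obj := congrArg FilObj.Hom.hom e.inv_hom_id
  haveI : IsIso e.hom.hom := ⟨e.inv.hom, hhi, hih⟩
  show imageSubobject ((P.fil p).arrow ≫ e.hom.hom ≫ f.hom) =
    imageSubobject (e.hom.hom ≫ f.hom) ⊓ M.fil p
  rw [imageSubobject_iso_comp e.hom.hom f.hom, ← hf p]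
  apply le_antisymm
  · -- image of F^pP ≤ image of F^pP'
    have h1 : (P'.fil p).Factors ((P.fil p).arrow ≫ e.hom.hom) :=
      factors_of_compat e.hom p _ (Subobject.factors_self _)
    have : (P.fil p).arrow ≫ e.hom.hom ≫ f.hom =
        (P'.fil p).factorThru _ h1 ≫ ((P'.fil p).arrow ≫ f.hom) := by
      rw [← Category.assoc, ← Category.assoc, Subobject.factorThru_arrow]
    exact imageSubobject_le_of_eq_comp _ _ _ this
  · have h1 : (P.fil p).Factors ((P'.fil p).arrow ≫ e.inv.hom) :=
      factors_of_compat e.inv p _ (Subobject.factors_self _)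
    have : (P'.fil p).arrow ≫ f.hom =
        (P.fil p).factorThru _ h1 ≫ ((P.fil p).arrow ≫ e.hom.hom ≫ f.hom) := by
      rw [← Category.assoc, Subobject.factorThru_arrow, Category.assoc,
        ← Category.assoc e.inv.hom, hih, Category.id_comp]
    exact imageSubobject_le_of_eq_comp _ _ _ this

/-- Strictness is preserved by postcomposition with an isomorphism of filtered objects. -/
theorem isStrict_comp_iso {M P P' : FilObj A} (f : M ⟶ P) (e : P ≅ P')
    (hf : FilObj.IsStrict f) : FilObj.IsStrict (f ≫ e.hom) := by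
  intro p
  have hhi : e.hom.hom ≫ e.inv.hom = 𝟙 P.obj := congrArg FilObj.Hom.hom e.hom_inv_id
  have hih : e.inv.hom ≫ e.hom.hom = 𝟙 P'.obj := congrArg FilObj.Hom.hom e.inv_hom_id
  show imageSubobject ((M.fil p).arrow ≫ f.hom ≫ e.hom.hom) =
    imageSubobject (f.hom ≫ e.hom.hom) ⊓ P'.fil p
  apply le_antisymm
  · apply le_inf
    · exact imageSubobject_comp_le (M.fil p).arrow (f.hom ≫ e.hom.hom)
    · apply imageSubobject_le_of_factors
      exact factors_of_compat (f ≫ e.hom) p _ (Subobject.factors_self _)
  · -- generalized element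
    set Q := imageSubobject (f.hom ≫ e.hom.hom) ⊓ P'.fil p with hQ
    have hQ1 : (imageSubobject (f.hom ≫ e.hom.hom)).Factors Q.arrow :=
      Subobject.inf_arrow_factors_left _ _
    have hQ2 : (P'.fil p).Factors Q.arrow := Subobject.inf_arrow_factors_right _ _
    obtain ⟨T', π, hπ, y, hy⟩ := exists_refinement_of_factors_image _ _ hQ1
    -- y ≫ f.hom factors through image f ⊓ F^pP
    have h3 : (P.fil p).Factors (y ≫ f.hom) := by
      have h4 : (P.fil p).Factors ((π ≫ Q.arrow) ≫ e.inv.hom) :=
        factors_of_compat e.inv p _ (Subobject.factors_of_factors_right _ hQ2)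
      rw [hy, Category.assoc, Category.assoc, hhi, Category.comp_id] at h4
      exact h4
    have h5 : (imageSubobject f.hom ⊓ P.fil p).Factors (y ≫ f.hom) :=
      (Subobject.inf_factors _).mpr ⟨imageSubobject_factors_comp_self _ _, h3⟩
    rw [← hf p] at h5
    obtain ⟨T'', π', hπ', z, hz⟩ := exists_refinement_of_factors_image _ _ h5
    haveI : Epi (π' ≫ π) := epi_comp _ _
    refine le_of_epi_comp_factors Q _ (π' ≫ π) ?_
    have : (π' ≫ π) ≫ Q.arrow = z ≫ ((M.fil p).arrow ≫ f.hom ≫ e.hom.hom) := by
      rw [Category.assoc, hy]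
      have h6 := congrArg (fun w => w ≫ e.hom.hom) hz
      simpa only [Category.assoc] using h6
    rw [this]
    exact imageSubobject_factors_comp_self _ _

end Groth.Agent.Helper6.FilObjLib
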