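import Mathlib
import Groth.Prelude.Def_SpSeq
import Groth.Agent.Lib.Helper6.FilObj.Basic

set_option linter.unusedSectionVars false
set_option linter.unusedVariables false
set_option linter.unusedSimpArgs false
set_option autoImplicit false
set_option linter.style.haveILetI false
set_option maxHeartbeats 400000

/-!
# Pullbacks of filtered objects
-/

namespace Groth.Agent.Helper6.FilObjLib

open CategoryTheory Limits SpSeq

universe v u

variable {A : Type u} [Category.{v} A] [Abelian A] {K L M : FilObj A} (f : L ⟶ K) (g : M ⟶ K)

/-- The pullback of filtered objects. -/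
@[reducible] noncomputable def pb : FilObj A where
  obj := pullback f.hom g.hom
  fil p := (Subobject.pullback (pullback.fst f.hom g.hom)).obj (L.fil p) ⊓
    (Subobject.pullback (pullback.snd f.hom g.hom)).obj (M.fil p)
  anti := fun p q h => inf_le_inf ((Subobject.pullback _).monotone (L.anti h))
    ((Subobject.pullback _).monotone (M.anti h))

noncomputable def pbFst : pb f g ⟶ L := ⟨pullback.fst f.hom g.hom, fun p => inf_le_left⟩

noncomputable def pbSnd : pb f g ⟶ M := ⟨pullback.snd f.hom g.hom, fun p => inf_le_right⟩

theorem pb_condition : pbFst f g ≫ f = pbSnd f g ≫ g :=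
  FilObj.Hom.ext pullback.condition

noncomputable def pbLift {T : FilObj A} (a : T ⟶ L) (b : T ⟶ M) (h : a ≫ f = b ≫ g) :
    T ⟶ pb f g :=
  ⟨pullback.lift a.hom b.hom (congrArg FilObj.Hom.hom h), fun p => by
    rw [le_pullback_iff]
    apply (Subobject.inf_factors _).mpr
    constructor
    · apply pullback_factors
      rw [Category.assoc, pullback.lift_fst]
      exact factors_of_compat a p _ (Subobject.factors_self _)
    · apply pullback_factors
      rw [Category.assoc, pullback.lift_snd]
      exact factors_of_compat b p _ (Subobject.factors_self _)⟩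

theorem isPullback_pb : IsPullback (pbFst f g) (pbSnd f g) f g := by
  refine ⟨⟨pb_condition f g⟩, ⟨PullbackCone.IsLimit.mk _
    (fun s => pbLift f g s.fst s.snd s.condition) ?_ ?_ ?_⟩⟩
  · intro s
    exact FilObj.Hom.ext (pullback.lift_fst _ _ _)
  · intro s
    exact FilObj.Hom.ext (pullback.lift_snd _ _ _)
  · intro s m h1 h2
    apply FilObj.Hom.ext
    apply pullback.hom_ext
    · have := congrArg FilObj.Hom.hom h1
      refine this.trans ?_
      exact (pullback.lift_fst _ _ _).symm
    · have := congrArg FilObj.Hom.hom h2
      refine this.trans ?_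
      exact (pullback.lift_snd _ _ _).symm

theorem isStrict_pbSnd (hf : FilObj.IsStrict f) : FilObj.IsStrict (pbSnd f g) := by
  intro p
  apply le_antisymm
  · apply le_inf
    · exact imageSubobject_comp_le _ _
    · apply imageSubobject_le_of_factors
      exact factors_of_compat (pbSnd f g) p _ (Subobject.factors_self _)
  · set Q := imageSubobject (pbSnd f g).hom ⊓ M.fil p with hQ
    have hQ1 : (imageSubobject (pbSnd f g).hom).Factors Q.arrow :=
      Subobject.inf_arrow_factors_left _ _
    have hQ2 : (M.fil p).Factors Q.arrow := Subobject.inf_arrow_factors_right _ _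
    obtain ⟨T', π, hπ, y, hy⟩ := exists_refinement_of_factors_image _ _ hQ1
    have hy' : π ≫ Q.arrow = y ≫ pullback.snd f.hom g.hom := hy
    have hK : (K.fil p).Factors ((y ≫ pullback.fst f.hom g.hom) ≫ f.hom) := by
      rw [Category.assoc, pullback.condition, ← Category.assoc, ← hy', Category.assoc]
      exact Subobject.factors_of_factors_right _ (factors_of_compat g p _ hQ2)
    have h5 : (imageSubobject f.hom ⊓ K.fil p).Factors
        ((y ≫ pullback.fst f.hom g.hom) ≫ f.hom) :=
      (Subobject.inf_factors _).mpr ⟨imageSubobject_factors_comp_self _ _, hK⟩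
    rw [← hf p] at h5
    obtain ⟨T'', π', hπ', z, hz⟩ := exists_refinement_of_factors_image _ _ h5
    have hw : (z ≫ (L.fil p).arrow) ≫ f.hom = (π' ≫ π ≫ Q.arrow) ≫ g.hom := by
      rw [Category.assoc, ← hz, hy']
      simp only [Category.assoc, pullback.condition]
    let w : T'' ⟶ pullback f.hom g.hom := pullback.lift _ _ hw
    have hwF : ((pb f g).fil p).Factors w := by
      apply (Subobject.inf_factors _).mpr
      constructor
      · apply pullback_factors
        rw [pullback.lift_fst]
        exact Subobject.factors_comp_arrow z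
      · apply pullback_factors
        rw [pullback.lift_snd]
        exact Subobject.factors_of_factors_right _ (Subobject.factors_of_factors_right _ hQ2)
    haveI : Epi (π' ≫ π) := epi_comp _ _
    refine le_of_epi_comp_factors Q _ (π' ≫ π) ?_
    have : (π' ≫ π) ≫ Q.arrow =
        ((pb f g).fil p).factorThru w hwF ≫ (((pb f g).fil p).arrow ≫ (pbSnd f g).hom) := by
      rw [← Category.assoc, Subobject.factorThru_arrow]
      show _ = w ≫ pullback.snd f.hom g.hom
      rw [pullback.lift_snd, Category.assoc]
    rw [this]
    exact imageSubobject_factors_comp_self _ _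

theorem hasPullback_and_isStrict :
    HasPullback f g ∧ ∀ (P : FilObj A) (g' : P ⟶ L) (f' : P ⟶ M),
      IsPullback g' f' f g → FilObj.IsStrict f → FilObj.IsStrict f' := by
  refine ⟨(isPullback_pb f g).hasPullback, ?_⟩
  intro P g' f' hP hf
  have h1 : (hP.isoIsPullback _ _ (isPullback_pb f g)).hom ≫ pbSnd f g = f' :=
    hP.isoIsPullback_hom_snd _ _ (isPullback_pb f g)
  rw [← h1]
  exact isStrict_iso_comp _ _ (isStrict_pbSnd f g hf)

end Groth.Agent.Helper6.FilObjLib
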