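import Mathlib
import Groth.Prelude.Def_SpSeq
import Groth.Agent.Lib.Helper6.FilObj.Basic

set_option linter.unusedSectionVars false
set_option linter.unusedVariables false
set_option linter.unusedSimpArgs false
set_option autoImplicit false
set_option linter.style.haveILetI false
set_option maxHeartbeats 400000

/-!
# Pushouts of filtered objects
-/

namespace Groth.Agent.Helper6.FilObjLib

open CategoryTheory Limits SpSeq

universe v u

variable {A : Type u} [Category.{v} A] [Abelian A]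

theorem imageSubobject_factors_self {W Y : A} (h : W ⟶ Y) : (imageSubobject h).Factors h :=
  (Subobject.factors_iff _ _).mpr ⟨factorThruImageSubobject h, imageSubobject_arrow_comp h⟩

theorem factors_image_of_eq {W W' Y : A} (b : W' ⟶ Y) (a : W ⟶ Y) (u : W ⟶ W')
    (h : a = u ≫ b) : (imageSubobject b).Factors a := by
  subst h
  exact imageSubobject_factors_comp_self _ _

/-- A generalized element of a sup of two subobjects is, up to refinement, a sum. -/
theorem exists_refinement_of_factors_sup {X T : A} (S₁ S₂ : Subobject X) (x : T ⟶ X)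
    (hx : (S₁ ⊔ S₂).Factors x) :
    ∃ (T' : A) (π : T' ⟶ T) (_ : Epi π) (x₁ : T' ⟶ (S₁ : A)) (x₂ : T' ⟶ (S₂ : A)),
      π ≫ x = x₁ ≫ S₁.arrow + x₂ ≫ S₂.arrow := by
  have hle : S₁ ⊔ S₂ ≤ imageSubobject (biprod.desc S₁.arrow S₂.arrow) := by
    apply sup_le
    · apply Subobject.le_of_factors
      exact factors_image_of_eq _ _ biprod.inl (by simp)
    · apply Subobject.le_of_factors
      exact factors_image_of_eq _ _ biprod.inr (by simp)
  obtain ⟨T', π, hπ, y, hy⟩ :=
    exists_refinement_of_factors_image _ x (Subobject.factors_of_le x hle hx)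
  refine ⟨T', π, hπ, y ≫ biprod.fst, y ≫ biprod.snd, ?_⟩
  rw [hy, biprod.desc_eq, Preadditive.comp_add]
  simp only [Category.assoc]

/-- Exactness of the pushout sequence, in terms of generalized elements. -/
theorem pushout_exact_refinement {X₁ X₂ X₃ X₄ : A} {f : X₁ ⟶ X₂} {g : X₁ ⟶ X₃}
    {inl : X₂ ⟶ X₄} {inr : X₃ ⟶ X₄} (h : IsPushout f g inl inr) {T : A}
    (u : T ⟶ X₂) (v : T ⟶ X₃) (huv : u ≫ inl + v ≫ inr = 0) :
    ∃ (T' : A) (π : T' ⟶ T) (_ : Epi π) (k : T' ⟶ X₁), π ≫ u = k ≫ f ∧ π ≫ v = -(k ≫ g) := by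
  obtain ⟨T', π, hπ, k, hk⟩ := h.exact_shortComplex.exact_up_to_refinements (biprod.lift u v)
    (by
      show biprod.lift u v ≫ biprod.desc inl inr = 0
      rw [biprod.lift_desc, huv])
  let k₀ : T' ⟶ X₁ := k
  have hk' : π ≫ biprod.lift u v = k₀ ≫ biprod.lift f (-g) := hk
  refine ⟨T', π, hπ, k₀, ?_, ?_⟩
  · have := congrArg (fun z => z ≫ biprod.fst) hk'
    simp only [Category.assoc] at this
    rw [biprod.lift_fst, biprod.lift_fst] at this
    exact this
  · have := congrArg (fun z => z ≫ biprod.snd) hk'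
    simp only [Category.assoc] at this
    rw [biprod.lift_snd, biprod.lift_snd, Preadditive.comp_neg] at this
    exact this

variable {K L M : FilObj A} (f : K ⟶ L) (g : K ⟶ M)

/-- The pushout of filtered objects. -/
@[reducible] noncomputable def po : FilObj A where
  obj := pushout f.hom g.hom
  fil p := imageSubobject ((L.fil p).arrow ≫ pushout.inl f.hom g.hom) ⊔
    imageSubobject ((M.fil p).arrow ≫ pushout.inr f.hom g.hom)
  anti := fun p q h => by
    apply sup_le_sup
    · refine imageSubobject_le_of_eq_comp _ _ ((L.fil q).ofLE (L.fil p) (L.anti h)) ?_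
      rw [← Category.assoc, Subobject.ofLE_arrow]
    · refine imageSubobject_le_of_eq_comp _ _ ((M.fil q).ofLE (M.fil p) (M.anti h)) ?_
      rw [← Category.assoc, Subobject.ofLE_arrow]

noncomputable def poInl : L ⟶ po f g :=
  ⟨pushout.inl f.hom g.hom, fun p => by
    rw [le_pullback_iff]
    exact Subobject.sup_factors_of_factors_left (imageSubobject_factors_self _)⟩

noncomputable def poInr : M ⟶ po f g :=
  ⟨pushout.inr f.hom g.hom, fun p => by
    rw [le_pullback_iff]
    exact Subobject.sup_factors_of_factors_right (imageSubobject_factors_self _)⟩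

theorem po_condition : f ≫ poInl f g = g ≫ poInr f g :=
  FilObj.Hom.ext pushout.condition

noncomputable def poDesc {T : FilObj A} (a : L ⟶ T) (b : M ⟶ T) (h : f ≫ a = g ≫ b) :
    po f g ⟶ T :=
  ⟨pushout.desc a.hom b.hom (congrArg FilObj.Hom.hom h), fun p => by
    apply sup_le
    · apply imageSubobject_le_of_factors
      apply pullback_factors
      rw [Category.assoc, pushout.inl_desc]
      exact factors_of_compat a p _ (Subobject.factors_self _)
    · apply imageSubobject_le_of_factors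
      apply pullback_factors
      rw [Category.assoc, pushout.inr_desc]
      exact factors_of_compat b p _ (Subobject.factors_self _)⟩

theorem isPushout_po : IsPushout f g (poInl f g) (poInr f g) := by
  refine ⟨⟨po_condition f g⟩, ⟨PushoutCocone.IsColimit.mk _
    (fun s => poDesc f g s.inl s.inr s.condition) ?_ ?_ ?_⟩⟩
  · intro s
    exact FilObj.Hom.ext (pushout.inl_desc _ _ _)
  · intro s
    exact FilObj.Hom.ext (pushout.inr_desc _ _ _)
  · intro s m h1 h2
    apply FilObj.Hom.ext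
    apply pushout.hom_ext
    · have := congrArg FilObj.Hom.hom h1
      refine this.trans ?_
      exact (pushout.inl_desc _ _ _).symm
    · have := congrArg FilObj.Hom.hom h2
      refine this.trans ?_
      exact (pushout.inr_desc _ _ _).symm

theorem isStrict_poInr (hf : FilObj.IsStrict f) : FilObj.IsStrict (poInr f g) := by
  intro p
  apply le_antisymm
  · apply le_inf
    · exact imageSubobject_comp_le _ _
    · exact le_sup_right
  · set S₁ := imageSubobject ((L.fil p).arrow ≫ pushout.inl f.hom g.hom) with hS₁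
    set S₂ := imageSubobject ((M.fil p).arrow ≫ pushout.inr f.hom g.hom) with hS₂
    set Q := imageSubobject (poInr f g).hom ⊓ (S₁ ⊔ S₂) with hQ
    show Q ≤ S₂
    have hQ1 : (imageSubobject (poInr f g).hom).Factors Q.arrow :=
      Subobject.inf_arrow_factors_left _ _
    have hQ2 : (S₁ ⊔ S₂).Factors Q.arrow := Subobject.inf_arrow_factors_right _ _
    -- step 0: x = m ≫ inr
    obtain ⟨T₀, π₀, hπ₀, m, hm⟩ := exists_refinement_of_factors_image _ _ hQ1
    have hm' : π₀ ≫ Q.arrow = m ≫ pushout.inr f.hom g.hom := hm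
    -- step 1: x = x₁ + x₂
    obtain ⟨T₁, π₁, hπ₁, x₁, x₂, hx⟩ := exists_refinement_of_factors_sup S₁ S₂ (π₀ ≫ Q.arrow)
      (Subobject.factors_of_factors_right _ hQ2)
    -- step 2: lift x₁ to F^pL and x₂ to F^pM
    obtain ⟨T₂, π₂, hπ₂, l, hl⟩ := exists_refinement_of_factors_image
      ((L.fil p).arrow ≫ pushout.inl f.hom g.hom) (x₁ ≫ S₁.arrow) (Subobject.factors_comp_arrow x₁)
    obtain ⟨T₃, π₃, hπ₃, mp, hmp⟩ := exists_refinement_of_factors_image
      ((M.fil p).arrow ≫ pushout.inr f.hom g.hom) (π₂ ≫ x₂ ≫ S₂.arrow)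
      (Subobject.factors_of_factors_right _ (Subobject.factors_comp_arrow x₂))
    -- on T₃ : σ ≫ x = (π₃ ≫ l) ≫ a + mp ≫ b
    have hσ : (π₃ ≫ π₂ ≫ π₁ ≫ π₀) ≫ Q.arrow =
        ((π₃ ≫ l) ≫ (L.fil p).arrow) ≫ pushout.inl f.hom g.hom +
          (mp ≫ (M.fil p).arrow) ≫ pushout.inr f.hom g.hom := by
      have e1 : (π₃ ≫ π₂ ≫ π₁ ≫ π₀) ≫ Q.arrow = π₃ ≫ π₂ ≫ (π₁ ≫ π₀ ≫ Q.arrow) := by
        simp only [Category.assoc]
      rw [e1, hx, Preadditive.comp_add, Preadditive.comp_add, hl, hmp]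
      simp only [Category.assoc]
    have hσm : (π₃ ≫ π₂ ≫ π₁ ≫ π₀) ≫ Q.arrow =
        (π₃ ≫ π₂ ≫ π₁ ≫ m) ≫ pushout.inr f.hom g.hom := by
      simp only [Category.assoc, hm']
    -- step 4: exactness
    have huv : ((π₃ ≫ l) ≫ (L.fil p).arrow) ≫ pushout.inl f.hom g.hom +
        (mp ≫ (M.fil p).arrow - π₃ ≫ π₂ ≫ π₁ ≫ m) ≫ pushout.inr f.hom g.hom = 0 := by
      rw [Preadditive.sub_comp, ← hσm, hσ]
      abel
    obtain ⟨T₄, π₄, hπ₄, k, hk1, hk2⟩ :=
      pushout_exact_refinement (IsPushout.of_hasPushout f.hom g.hom) _ _ huv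
    -- step 5: strictness
    have h5 : (imageSubobject f.hom ⊓ L.fil p).Factors (k ≫ f.hom) := by
      apply (Subobject.inf_factors _).mpr
      refine ⟨imageSubobject_factors_comp_self _ _, ?_⟩
      rw [← hk1, ← Category.assoc]
      exact Subobject.factors_comp_arrow _
    rw [← hf p] at h5
    obtain ⟨T₅, π₅, hπ₅, k', hk'⟩ := exists_refinement_of_factors_image _ _ h5
    -- step 6
    have hgK : (M.fil p).Factors ((K.fil p).arrow ≫ g.hom) :=
      factors_of_compat g p _ (Subobject.factors_self _)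
    haveI : Epi (π₅ ≫ π₄ ≫ π₃ ≫ π₂ ≫ π₁ ≫ π₀) := by
      haveI := epi_comp π₁ π₀
      haveI := epi_comp π₂ (π₁ ≫ π₀)
      haveI := epi_comp π₃ (π₂ ≫ π₁ ≫ π₀)
      haveI := epi_comp π₄ (π₃ ≫ π₂ ≫ π₁ ≫ π₀)
      exact epi_comp π₅ _
    refine le_of_epi_comp_factors Q _ (π₅ ≫ π₄ ≫ π₃ ≫ π₂ ≫ π₁ ≫ π₀) ?_
    have hfinal : (π₅ ≫ π₄ ≫ π₃ ≫ π₂ ≫ π₁ ≫ π₀) ≫ Q.arrow =
        (k' ≫ (M.fil p).factorThru _ hgK + π₅ ≫ π₄ ≫ mp) ≫
          ((M.fil p).arrow ≫ pushout.inr f.hom g.hom) := by
      have e1 : (π₅ ≫ π₄ ≫ π₃ ≫ π₂ ≫ π₁ ≫ π₀) ≫ Q.arrow =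
          π₅ ≫ π₄ ≫ ((π₃ ≫ π₂ ≫ π₁ ≫ π₀) ≫ Q.arrow) := by
        simp only [Category.assoc]
      rw [e1, hσ, Preadditive.comp_add, Preadditive.comp_add, Preadditive.add_comp]
      congr 1
      · -- first term
        have e2 : π₅ ≫ π₄ ≫ ((π₃ ≫ l) ≫ (L.fil p).arrow) ≫ pushout.inl f.hom g.hom =
            (π₅ ≫ (π₄ ≫ (π₃ ≫ l) ≫ (L.fil p).arrow)) ≫ pushout.inl f.hom g.hom := by
          simp only [Category.assoc]
        rw [e2, hk1, hk']
        simp only [Category.assoc]
        rw [pushout.condition]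
        have hc : (M.fil p).factorThru _ hgK ≫ (M.fil p).arrow = (K.fil p).arrow ≫ g.hom :=
          Subobject.factorThru_arrow _ _ _
        have := congrArg (fun z => k' ≫ z ≫ pushout.inr f.hom g.hom) hc
        simpa only [Category.assoc] using this.symm
      · simp only [Category.assoc]
    rw [hfinal]
    exact imageSubobject_factors_comp_self _ _

theorem hasPushout_and_isStrict :
    HasPushout f g ∧ ∀ (P : FilObj A) (g' : L ⟶ P) (f' : M ⟶ P),
      IsPushout f g g' f' → FilObj.IsStrict f → FilObj.IsStrict f' := by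
  refine ⟨(isPushout_po f g).hasPushout, ?_⟩
  intro P g' f' hP hf
  have h1 : poInr f g ≫ ((isPushout_po f g).isoIsPushout _ _ hP).hom = f' :=
    (isPushout_po f g).inr_isoIsPushout_hom _ _ hP
  rw [← h1]
  exact isStrict_comp_iso _ _ (isStrict_poInr f g hf)

end Groth.Agent.Helper6.FilObjLib
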